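import Groth.Agent.DvrDom.KrullAkizuki
import Groth.Agent.NagataOne.Pi
import Mathlib

/-!
# Integral closures of one-dimensional Noetherian orders
-/

set_option autoImplicit false
set_option linter.style.haveILetI false
set_option maxHeartbeats 800000

universe u

open nonZeroDivisors

namespace Groth.Agent.KA7165

/-- a ring with a finite separating family of Noetherian quotients is Noetherian -/
theorem isNoetherianRing_of_separating {D : Type u} [CommRing D] {ι : Type u} [Finite ι] (E : ι → Type u)
    [∀ i, CommRing (E i)] [∀ i, IsNoetherianRing (E i)] (f : ∀ i, D →+* E i)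
    (hs : ∀ i, Function.Surjective (f i)) (h : ∀ x, (∀ i, f i x = 0) → x = 0) : IsNoetherianRing D := by
  letI : ∀ i, Algebra D (E i) := fun i => (f i).toAlgebra
  haveI : ∀ i, IsNoetherian D (E i) := fun i => ⟨fun N => by
    let N' : Submodule (E i) (E i) :=
      { carrier := N
        zero_mem' := N.zero_mem
        add_mem' := fun ha hb => N.add_mem ha hb
        smul_mem' := fun c x hx => by
          obtain ⟨d, rfl⟩ := hs i c
          exact N.smul_mem d hx }
    have h2 : N'.restrictScalars D = N := SetLike.ext fun _ => Iff.rfl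
    rw [← h2]
    obtain ⟨s, hN⟩ := IsNoetherian.noetherian N'
    refine ⟨s, ?_⟩
    rw [← hN, Submodule.restrictScalars_span (hsur := hs i)]⟩
  exact isNoetherian_of_injective (LinearMap.pi fun i => Algebra.linearMap D (E i))
    ((injective_iff_map_eq_zero _).2 fun x hx => h x fun i => congrFun hx i)

theorem ringKrullDim_le_of_isIntegral {A B : Type u} [CommRing A] [CommRing B] [Algebra A B] [Algebra.IsIntegral A B] :
    ringKrullDim B ≤ ringKrullDim A :=
  Order.krullDim_le_of_strictMono
    (fun P : PrimeSpectrum B => (⟨P.asIdeal.comap (algebraMap A B), inferInstance⟩ : PrimeSpectrum A))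
    fun _ _ hPQ => Ideal.IsIntegral.comap_lt_comap (R := A) hPQ

/-- quotients of integral extensions of a ring of dimension at most one have dimension at most one -/
theorem krullDimLE_quotient (B : Type u) {R : Type u} [CommRing B] [IsDomain B] [Ring.KrullDimLE 1 B] [CommRing R]
    [Algebra B R] [Algebra.IsIntegral B R] (P : Ideal R) : Ring.KrullDimLE 1 (R ⧸ P) := by
  haveI : Ring.KrullDimLE 1 R := Ring.krullDimLE_iff.2
    ((ringKrullDim_le_of_isIntegral (A := B) (B := R)).trans (Ring.krullDimLE_iff.1 inferInstance))
  exact Ring.krullDimLE_iff.2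
    ((ringKrullDim_quotient_le P).trans (Ring.krullDimLE_iff.1 inferInstance))

/-- A reduced algebra in which the nonzero elements of the one-dimensional domain `B` are invertible, and which is
obtained by inverting them from a Noetherian subalgebra integral over `B`, has Noetherian integral closure of `B`. -/
theorem isNoetherianRing_integralClosure {B L' : Type u} [CommRing B] [IsDomain B] [Ring.KrullDimLE 1 B]
    [CommRing L'] [IsReduced L'] [Algebra B L'] (hunit : ∀ b : B, b ≠ 0 → IsUnit (algebraMap B L' b))
    (R : Subalgebra B L') [IsNoetherianRing R] [Algebra.IsIntegral B R]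
    (hsurj : ∀ z : L', ∃ b : B, b ≠ 0 ∧ algebraMap B L' b * z ∈ R) :
    IsNoetherianRing (integralClosure B L') := by
  classical
  haveI : _root_.IsReduced R := isReduced_of_injective R.val Subtype.val_injective
  haveI : Finite (NagataOne.Min R) := (minimalPrimes.finite_of_isNoetherianRing R).to_subtype
  let S : Submonoid R := Algebra.algebraMapSubmonoid R B⁰
  haveI hloc : IsLocalization S L' := by
    refine ⟨fun s => ?_, fun z => ?_, fun {x y} h => ⟨1, by rw [Subtype.ext h]⟩⟩
    · obtain ⟨b, hb, hbs⟩ := s.2
      rw [← hbs]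
      exact hunit b (nonZeroDivisors.ne_zero hb)
    · obtain ⟨b, hb, hbz⟩ := hsurj z
      exact ⟨⟨⟨_, hbz⟩, ⟨algebraMap B R b, b, mem_nonZeroDivisors_of_ne_zero hb, rfl⟩⟩, mul_comm _ _⟩
  have hS : ∀ (p : NagataOne.Min R) (s : S), algebraMap R (NagataOne.Kp R p) s ≠ 0 := fun p s h => by
    refine (NagataOne.mem_nonZeroDivisors_iff_forall_notMem R).1 ?_ p (NagataOne.algebraMap_Kp_eq_zero R |>.1 h)
    obtain ⟨b, hb, hbs⟩ := s.2
    refine mem_nonZeroDivisors_iff_right.2 fun z hz => Subtype.ext ?_
    have h1 : (z : L') * algebraMap B L' b = 0 := by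
      rw [← hbs] at hz
      exact congrArg Subtype.val hz
    exact (hunit b (nonZeroDivisors.ne_zero hb)).mul_left_eq_zero.1 h1
  let φ : ∀ p : NagataOne.Min R, L' →+* NagataOne.Kp R p := fun p =>
    IsLocalization.lift (M := S) (g := algebraMap R (NagataOne.Kp R p)) fun s => isUnit_iff_ne_zero.2 (hS p s)
  have hφ : ∀ p (r : R), φ p (r : L') = algebraMap R (NagataOne.Kp R p) r := fun p r =>
    IsLocalization.lift_eq (M := S) (fun s => isUnit_iff_ne_zero.2 (hS p s)) r
  let D := integralClosure B L'
  have hRD : ∀ r : R, (r : L') ∈ D := fun r => (Algebra.IsIntegral.isIntegral (R := B) r).map R.val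
  let f : ∀ p : NagataOne.Min R, D →+* NagataOne.Kp R p := fun p => (φ p).comp D.val.toRingHom
  haveI : ∀ p, IsNoetherianRing (f p).range := fun p => by
    let C := R ⧸ p.1
    haveI : Ring.KrullDimLE 1 C := krullDimLE_quotient B p.1
    let Dp : Subalgebra C (NagataOne.Kp R p) :=
      { (f p).range.toSubsemiring with
        algebraMap_mem' := fun c => by
          obtain ⟨r, rfl⟩ := Ideal.Quotient.mk_surjective c
          exact ⟨⟨_, hRD r⟩, (hφ p r).trans rfl⟩ }
    haveI := DvrDom.isNoetherianRing_subalgebra Dp
    exact isNoetherianRing_of_ringEquiv Dp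
      { toFun := fun x => (⟨x.1, x.2⟩ : (f p).range)
        invFun := fun x => ⟨x.1, x.2⟩
        left_inv := fun _ => rfl
        right_inv := fun _ => rfl
        map_mul' := fun _ _ => rfl
        map_add' := fun _ _ => rfl }
  refine isNoetherianRing_of_separating (fun p => (f p).range) (fun p => (f p).rangeRestrict)
    (fun p => (f p).rangeRestrict_surjective) fun z hz => Subtype.ext ?_
  obtain ⟨b, hb, hbz⟩ := hsurj (z : L')
  have h0 : (⟨_, hbz⟩ : R) = 0 := NagataOne.eq_zero_of_forall_mem R fun p => by
    rw [← NagataOne.algebraMap_Kp_eq_zero R, ← hφ p]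
    show φ p (algebraMap B L' b * (z : L')) = 0
    rw [map_mul, show φ p (z : L') = 0 from congrArg Subtype.val (hz p), mul_zero]
  exact (hunit b hb).mul_right_eq_zero.1 (congrArg Subtype.val h0)

end Groth.Agent.KA7165
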